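import Groth.Agent.LatExt7.Triv
import Groth.Agent.GaExt25.ExtShLocal

/-!
The first Ext sheaf out of a group which is etale locally a constant lattice vanishes.
-/

set_option autoImplicit false
set_option linter.style.haveILetI false
universe u

open CategoryTheory CategoryTheory.Limits MonoidalCategory CartesianMonoidalCategory MonObj AlgebraicGeometry Opposite

noncomputable section

namespace Groth.Agent.LatExt7

variable {S : Scheme.{u}}

/-- A trivialisation restricts. -/
def Triv.restrict {Z : Type u} [Group Z] {X T T' : Over S} [GrpObj X] (τ : Triv Z X T) (h : T' ⟶ T) :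
    Triv Z X T' where
  χ := MonoidHom.mk' (fun m => h ≫ τ.χ m) fun m n => by rw [map_mul, MonObj.comp_mul]
  idx {U} a x := τ.idx (a ≫ h) x
  lc {U} a x := τ.lc (a ≫ h) x
  eq_χ {U W} a x i m hm := by
    rw [τ.eq_χ (a ≫ h) x i m hm, MonoidHom.mk'_apply, Category.assoc]
  idx_eq {U W} a x i m hm := τ.idx_eq (a ≫ h) x i m (by rw [hm, MonoidHom.mk'_apply, Category.assoc])

theorem finset_inf_covering {C : Type*} [Category C] (J : GrothendieckTopology C) {T : C} {κ : Type*} (s : Finset κ)
    (R : κ → Sieve T) (h : ∀ i ∈ s, R i ∈ J T) : s.inf R ∈ J T := by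
  classical
  induction s using Finset.induction_on with
  | empty => rw [Finset.inf_empty]; exact J.top_mem T
  | insert a t ha ih =>
    rw [Finset.inf_insert]
    exact J.intersection_covering (h a (Finset.mem_insert_self a t))
      (ih fun i hi => h i (Finset.mem_insert_of_mem hi))

/-- A point as a section of the sheaf of points. -/
def toPt {X T : Over S} [GrpObj X] [IsCommMonObj X] (x : T ⟶ X) :
    (CGrpSh.pts Scheme.fppfPrecoverage X).obj.obj (op T) := ULift.up (Additive.ofMul x)

theorem toPt_mul {X T : Over S} [GrpObj X] [IsCommMonObj X] (x y : T ⟶ X) : toPt (x * y) = toPt x + toPt y := rfl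

theorem map_toPt {X T T' : Over S} [GrpObj X] [IsCommMonObj X] (h : T' ⟶ T) (x : T ⟶ X) :
    (CGrpSh.pts Scheme.fppfPrecoverage X).obj.map h.op (toPt x) = toPt (h ≫ x) := rfl

theorem toPt_down {X T : Over S} [GrpObj X] [IsCommMonObj X]
    (x : (CGrpSh.pts Scheme.fppfPrecoverage X).obj.obj (op T)) : toPt x.down.toMul = x := rfl

/-- An element of the lattice of rank `r` in the universe of the base. -/
def gen {r : ℕ} (i : Fin r) : ULift.{u} (Multiplicative (Fin r → ℤ)) :=
  ULift.up (Multiplicative.ofAdd (Pi.single i 1))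

/-- A homomorphism on the lattice is given by its values at the generators. -/
theorem hom_apply_eq_sum {r : ℕ} {A : Type*} [AddCommGroup A]
    (L : Additive (ULift.{u} (Multiplicative (Fin r → ℤ))) →+ A) (m : ULift.{u} (Multiplicative (Fin r → ℤ))) :
    L (Additive.ofMul m) = ∑ i, m.down.toAdd i • L (Additive.ofMul (gen i)) := by
  let K : (Fin r → ℤ) →+ A :=
    AddMonoidHom.mk' (fun v => L (Additive.ofMul (ULift.up (Multiplicative.ofAdd v)))) fun v w => by
      rw [← map_add]; rfl
  show K m.down.toAdd = ∑ i, m.down.toAdd i • K (Pi.single i 1)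
  conv_lhs => rw [← Finset.univ_sum_single m.down.toAdd]
  rw [map_sum]
  refine Finset.sum_congr rfl fun i _ => ?_
  rw [← map_zsmul, ← Pi.single_smul', smul_eq_mul, _root_.mul_one]

/-- The homomorphism on the lattice with given values at the generators. -/
def sumHom {r : ℕ} {A : Type*} [AddCommGroup A] (y : Fin r → A) :
    Additive (ULift.{u} (Multiplicative (Fin r → ℤ))) →+ A :=
  AddMonoidHom.mk' (fun m => ∑ i, m.toMul.down.toAdd i • y i) fun m n => by
    rw [← Finset.sum_add_distrib]
    exact Finset.sum_congr rfl fun i _ => add_smul _ _ _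

theorem sumHom_gen {r : ℕ} {A : Type*} [AddCommGroup A] (y : Fin r → A) (i : Fin r) :
    sumHom y (Additive.ofMul (gen.{u} i)) = y i := by
  show ∑ j, (Pi.single i (1 : ℤ) : Fin r → ℤ) j • y j = y i
  rw [Finset.sum_eq_single i (fun j _ hj => by rw [Pi.single_eq_of_ne hj, zero_smul])
    (fun h => absurd (Finset.mem_univ i) h), Pi.single_eq_same, one_smul]

variable {X : Over S} [GrpObj X] [IsCommMonObj X]

/-- Homomorphisms out of a trivialised lattice lift along an epimorphism once the values at the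
generators lift. -/
theorem exists_lift {r : ℕ} {T : Over S} (τ : Triv (ULift.{u} (Multiplicative (Fin r → ℤ))) X T)
    {E Q : BigSite.Ab Scheme.fppfPrecoverage S} (b : E ⟶ Q) {T₀ : Over S} (g : T ⟶ T₀)
    (φ : (CGrpSh.pts Scheme.fppfPrecoverage X).over T₀ ⟶ Q.over T₀) (y : Fin r → E.obj.obj (op T))
    (hy : ∀ i, b.hom.app (op T) (y i) =
      GaExt25.comp' φ g (toPt (τ.χ (gen i)))) :
    ∃ ψ : (CGrpSh.pts Scheme.fppfPrecoverage X).over T ⟶ E.over T,
      ∀ (U : Over S) (a : U ⟶ T) (x : (CGrpSh.pts Scheme.fppfPrecoverage X).obj.obj (op U)),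
        b.hom.app (op U) (GaExt25.comp' ψ a x) = GaExt25.comp' φ (a ≫ g) x := by
  refine ⟨homOfConst τ E (sumHom y), fun U a x => ?_⟩
  let Lφ : Additive (ULift.{u} (Multiplicative (Fin r → ℤ))) →+ Q.obj.obj (op T) :=
    AddMonoidHom.mk' (fun m => GaExt25.comp' φ g (toPt (τ.χ m.toMul))) fun m n => by
      rw [← map_add, ← toPt_mul, ← map_mul]
      rfl
  have hL : ∀ m, b.hom.app (op T) (sumHom y (Additive.ofMul m)) = Lφ (Additive.ofMul m) := fun m => by
    rw [hom_apply_eq_sum (sumHom y) m, hom_apply_eq_sum Lφ m, map_sum]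
    refine Finset.sum_congr rfl fun i _ => ?_
    rw [map_zsmul, sumHom_gen, hy i]
    rfl
  refine GaExt25.section_ext_opens Q (piece τ a x.down.toMul) (iSup_piece τ a _) fun m => ?_
  let k : Over.mk ((piece τ a x.down.toMul m).ι ≫ U.hom) ⟶ U := Over.homMk (piece τ a x.down.toMul m).ι rfl
  have hk : k ≫ x.down.toMul = k ≫ a ≫ τ.χ m := τ.eq_χ a _ k m fun w => w.2
  show Q.obj.map k.op (b.hom.app (op U) (GaExt25.comp' (homOfConst τ E (sumHom y)) a x)) =
    Q.obj.map k.op (GaExt25.comp' φ (a ≫ g) x)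
  rw [← GaExt25.hom_app_map, comp'_homOfConst, isVal_val τ a _ _ k m hk, GaExt25.hom_app_map, hL,
    GaExt25.comp'_natural]
  show Q.obj.map (k ≫ a).op (GaExt25.comp' φ g (toPt (τ.χ m))) = _
  rw [GaExt25.comp'_natural, Category.assoc, map_toPt, Category.assoc, ← hk]
  rfl

/-- Homomorphisms out of a lattice lift fppf locally along epimorphisms. -/
theorem isZero_extSh_one (hX : TwC.Locally S TwC.Topology.etale (fun S' f =>
      ∃ (r : ℕ) (e : Red.bc f X ≅ TwC.const S' (Multiplicative (Fin r → ℤ))),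
        TwC.IsConstGrp (Multiplicative (Fin r → ℤ)) (Red.bc f X) e))
    (G : BigSite.Ab Scheme.fppfPrecoverage S) :
    IsZero ((HomSh.extSh (QuotSh.J Scheme.fppfPrecoverage S) (CGrpSh.pts Scheme.fppfPrecoverage X) 1).obj G) := by
  refine GaExt25.isZero_extSh_one_of_local_lift _ _ fun E Q a b w hse T φ => ?_
  choose S₁ f het hs r e he using hX
  choose e' he' using fun s => Const38.exists_uliftConst (he s)
  haveI : Epi b := hse.epi_g
  have hb : Sheaf.IsLocallySurjective b := (Sheaf.isLocallySurjective_iff_epi' AddCommGrpCat.{u+1} b).2 inferInstance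
  let Y : S → Over S := fun s => Over.mk (pullback.fst T.hom (f s) ≫ T.hom)
  let j : ∀ s, Y s ⟶ T := fun s => Over.homMk (pullback.fst T.hom (f s))
  have hfl : ∀ s, Flat (j s).left := fun s => by
    haveI := het s
    exact inferInstanceAs (Flat (pullback.fst T.hom (f s)))
  have hfp : ∀ s, LocallyOfFinitePresentation (j s).left := fun s => by
    haveI := het s
    exact inferInstanceAs (LocallyOfFinitePresentation (pullback.fst T.hom (f s)))
  have hsurj : ∀ x : T.left, ∃ s, x ∈ Set.range (j s).left := fun x => by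
    obtain ⟨z, hz⟩ := hs (T.hom x)
    obtain ⟨p, hp, -⟩ := Scheme.Pullback.exists_preimage_pullback x z hz.symm
    exact ⟨T.hom x, p, hp⟩
  let R₀ := Sieve.generate (Presieve.ofArrows Y j)
  let Good : ∀ (T' : Over S), (T' ⟶ T) → Prop := fun T' g => ∃ ψ : (CGrpSh.pts Scheme.fppfPrecoverage X).over T' ⟶ E.over T',
      ∀ (U : Over S) (h : U ⟶ T') (x : (CGrpSh.pts Scheme.fppfPrecoverage X).obj.obj (op U)),
        b.hom.app (op U) (GaExt25.comp' ψ h x) = GaExt25.comp' φ (h ≫ g) x
  have key : ∀ ⦃T' : Over S⦄ ⦃g : T' ⟶ T⦄, R₀.arrows g → ∃ R ∈ GaExt25.Jf S T',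
      ∀ ⦃T'' : Over S⦄ (h : T'' ⟶ T'), R.arrows h → Good T'' (h ≫ g) := by
    rintro T' g ⟨W, l, _, ⟨s⟩, rfl⟩
    let c : T'.left ⟶ S₁ s := l.left ≫ pullback.snd T.hom (f s)
    have hc : c ≫ f s = T'.hom := by
      show (l.left ≫ pullback.snd T.hom (f s)) ≫ f s = T'.hom
      rw [Category.assoc, ← pullback.condition]
      exact Over.w l
    let τ := trivOfConst (f s) (he' s) T' c hc
    let q : Fin (r s) → Q.obj.obj (op T') := fun i =>
      GaExt25.comp' φ (l ≫ j s) (toPt (τ.χ (gen i)))
    refine ⟨Finset.univ.inf fun i => Presheaf.imageSieve b.hom (q i),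
      finset_inf_covering _ _ _ fun i _ => hb.imageSieve_mem (q i), fun T'' h hh => ?_⟩
    have hi : ∀ i, (Presheaf.imageSieve b.hom (q i)).arrows h := fun i =>
      Finset.inf_le (f := fun j => Presheaf.imageSieve b.hom (q j)) (Finset.mem_univ i) _ hh
    choose y hy using hi
    refine exists_lift (τ.restrict h) b (h ≫ l ≫ j s) φ y fun i => ?_
    refine (hy i).trans ?_
    show Q.obj.map h.op (GaExt25.comp' φ (l ≫ j s) _) = _
    rw [GaExt25.comp'_natural]
    rfl
  choose R hR hgood using key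
  refine ⟨Sieve.bind R₀.arrows fun _ g hg => R hg,
    GrothendieckTopology.bind_covering _ (GaExt25.generate_mem j hfl hfp hsurj) fun _ g hg => hR hg, ?_⟩
  rintro T'' _ ⟨T', h, g, hg, hh, rfl⟩
  exact hgood hg h hh

end Groth.Agent.LatExt7
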