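import Groth.Agent.Const38.TwLattice
import Groth.Agent.GaExt25.HomCalc
import Groth.Agent.GaExt25.Glue

/-!
Points of a group scheme which becomes constant over a base: indices of points, and homomorphisms of
sheaves out of its points given by the values at the constant points.
-/

set_option autoImplicit false
set_option linter.style.haveILetI false
universe u

open CategoryTheory CategoryTheory.Limits MonoidalCategory CartesianMonoidalCategory MonObj AlgebraicGeometry Opposite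

noncomputable section

namespace Groth.Agent.LatExt7

variable {S : Scheme.{u}}

/-- A trivialisation over `T` of the points of `X` with values in the constant group `Z`. -/
structure Triv (Z : Type u) [Group Z] (X : Over S) [GrpObj X] (T : Over S) where
  /-- the point of index `m` -/
  χ : Z →* (T ⟶ X)
  /-- the index of a point -/
  idx : ∀ {U : Over S}, (U ⟶ T) → (U ⟶ X) → (U.left → Z)
  lc : ∀ {U : Over S} (a : U ⟶ T) (x : U ⟶ X), IsLocallyConstant (idx a x)
  eq_χ : ∀ {U W : Over S} (a : U ⟶ T) (x : U ⟶ X) (i : W ⟶ U) (m : Z),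
    (∀ w : W.left, idx a x (i.left w) = m) → i ≫ x = i ≫ a ≫ χ m
  idx_eq : ∀ {U W : Over S} (a : U ⟶ T) (x : U ⟶ X) (i : W ⟶ U) (m : Z),
    i ≫ x = i ≫ a ≫ χ m → ∀ w : W.left, idx a x (i.left w) = m

section OfConst

variable {S' : Scheme.{u}} (f : S' ⟶ S) (X : Over S) [GrpObj X]

/-- The points of a base change as points of the original group. -/
def bcPts (V : Over S') : ((Over.map f).obj V ⟶ X) ≃* (V ⟶ Red.bc f X) :=
  MulEquiv.mk ((Over.mapPullbackAdj f).homEquiv V X) fun x y => by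
    show (Over.mapPullbackAdj f).homEquiv V X (x * y) =
      (Over.mapPullbackAdj f).homEquiv V X x * (Over.mapPullbackAdj f).homEquiv V X y
    rw [Adjunction.homEquiv_unit, Adjunction.homEquiv_unit, Adjunction.homEquiv_unit,
      show (Over.pullback f).map (x * y) = (Over.pullback f).map x * (Over.pullback f).map y from
        map_mul ((Over.pullback f).homMonoidHom) x y, MonObj.comp_mul]

theorem bcPts_natural {V W : Over S'} (j : W ⟶ V) (x : (Over.map f).obj V ⟶ X) :
    j ≫ bcPts f X V x = bcPts f X W ((Over.map f).map j ≫ x) :=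
  ((Over.mapPullbackAdj f).homEquiv_naturality_left j x).symm

variable {X} {Z : Type u} [Group Z] {e : Red.bc f X ≅ TwC.const S' Z}

/-- A point over an object lying over `S'`. -/
def upTo {U : Over S} (d : U.left ⟶ S') (hd : d ≫ f = U.hom) : (Over.map f).obj (Over.mk d) ⟶ U :=
  Over.homMk (𝟙 U.left) (by simpa using hd.symm)

def downFrom {U : Over S} (d : U.left ⟶ S') (hd : d ≫ f = U.hom) : U ⟶ (Over.map f).obj (Over.mk d) :=
  Over.homMk (𝟙 U.left) (by simpa using hd)

theorem downFrom_upTo {U : Over S} (d : U.left ⟶ S') (hd : d ≫ f = U.hom) :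
    downFrom f d hd ≫ upTo f d hd = 𝟙 U := Over.OverMorphism.ext (Category.id_comp _)

theorem upTo_downFrom {U : Over S} (d : U.left ⟶ S') (hd : d ≫ f = U.hom) :
    upTo f d hd ≫ downFrom f d hd = 𝟙 _ := Over.OverMorphism.ext (Category.id_comp _)

theorem upTo_natural {U W : Over S} (i : W ⟶ U) (d : U.left ⟶ S') (hd : d ≫ f = U.hom) (d' : W.left ⟶ S')
    (hd' : d' ≫ f = W.hom) (h : i.left ≫ d = d') :
    (Over.map f).map (Over.homMk i.left h : Over.mk d' ⟶ Over.mk d) ≫ upTo f d hd = upTo f d' hd' ≫ i :=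
  Over.OverMorphism.ext (show i.left ≫ 𝟙 U.left = 𝟙 W.left ≫ i.left by rw [Category.comp_id, Category.id_comp])

variable (e) in
/-- The point of index `m`. -/
def chi (T : Over S) (c : T.left ⟶ S') (hc : c ≫ f = T.hom) (m : Z) : T ⟶ X :=
  downFrom f c hc ≫ (bcPts f X (Over.mk c)).symm (Const38.cpt e (Over.mk c) m)

variable (e) in
/-- The index of a point over an object lying over `S'`. -/
def idxAt {U : Over S} (d : U.left ⟶ S') (hd : d ≫ f = U.hom) (x : U ⟶ X) : U.left → Z :=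
  fun v => Const38.index e ((bcPts f X (Over.mk d) (upTo f d hd ≫ x)).left v)

theorem chi_mul (he : TwC.IsConstGrp Z (Red.bc f X) e) (T : Over S) (c : T.left ⟶ S') (hc : c ≫ f = T.hom) (m n : Z) :
    chi f e T c hc (m * n) = chi f e T c hc m * chi f e T c hc n := by
  rw [chi, chi, chi, ← Const38.cpt_mul he, map_mul, MonObj.comp_mul]

theorem comp_chi {U W T : Over S} (a : U ⟶ T) (i : W ⟶ U) (c : T.left ⟶ S') (hc : c ≫ f = T.hom) (m : Z)
    (hd' : (i.left ≫ a.left ≫ c) ≫ f = W.hom) :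
    upTo f (i.left ≫ a.left ≫ c) hd' ≫ i ≫ a ≫ chi f e T c hc m =
      (bcPts f X _).symm (Const38.cpt e (Over.mk (i.left ≫ a.left ≫ c)) m) := by
  let k : Over.mk (i.left ≫ a.left ≫ c) ⟶ Over.mk c := Over.homMk (i.left ≫ a.left) (Category.assoc _ _ _)
  have h : upTo f (i.left ≫ a.left ≫ c) hd' ≫ i ≫ a ≫ downFrom f c hc = (Over.map f).map k :=
    Over.OverMorphism.ext (show 𝟙 W.left ≫ i.left ≫ a.left ≫ 𝟙 T.left = i.left ≫ a.left by
      rw [Category.id_comp, Category.comp_id])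
  apply (bcPts f X _).injective
  rw [MulEquiv.apply_symm_apply, chi, show upTo f (i.left ≫ a.left ≫ c) hd' ≫ i ≫ a ≫ downFrom f c hc ≫
    (bcPts f X (Over.mk c)).symm (Const38.cpt e (Over.mk c) m) =
      (Over.map f).map k ≫ (bcPts f X (Over.mk c)).symm (Const38.cpt e (Over.mk c) m) by
    rw [← h]; simp only [Category.assoc], ← bcPts_natural, MulEquiv.apply_symm_apply, Const38.comp_cpt]

theorem idxAt_comp {U W : Over S} (i : W ⟶ U) (d : U.left ⟶ S') (hd : d ≫ f = U.hom) (x : U ⟶ X)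
    (hd' : (i.left ≫ d) ≫ f = W.hom) (w : W.left) :
    idxAt f e (i.left ≫ d) hd' (i ≫ x) w = idxAt f e d hd x (i.left w) := by
  let j : Over.mk (i.left ≫ d) ⟶ Over.mk d := Over.homMk i.left rfl
  have h : bcPts f X (Over.mk (i.left ≫ d)) (upTo f (i.left ≫ d) hd' ≫ i ≫ x) =
      j ≫ bcPts f X (Over.mk d) (upTo f d hd ≫ x) := by
    rw [bcPts_natural, ← Category.assoc ((Over.map f).map j), upTo_natural f i d hd _ hd' rfl, Category.assoc]
  rw [idxAt, h]
  rfl

theorem eq_of_idxAt {W : Over S} (d : W.left ⟶ S') (hd : d ≫ f = W.hom) (x y : W ⟶ X) (m : Z)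
    (hx : ∀ w, idxAt f e d hd x w = m) (hy : upTo f d hd ≫ y = (bcPts f X _).symm (Const38.cpt e (Over.mk d) m)) :
    x = y := by
  have h : upTo f d hd ≫ x = upTo f d hd ≫ y := by
    rw [hy, MulEquiv.eq_symm_apply]
    exact Const38.eq_cpt e _ m hx
  have h3 := congrArg (downFrom f d hd ≫ ·) h
  simpa only [← Category.assoc, downFrom_upTo, Category.id_comp] using h3

theorem isLocallyConstant_idxAt {U : Over S} (d : U.left ⟶ S') (hd : d ≫ f = U.hom) (x : U ⟶ X) :
    IsLocallyConstant (idxAt f e d hd x) :=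
  (Const38.isLocallyConstant_index e).comp_continuous
    ((bcPts f X (Over.mk d) (upTo f d hd ≫ x)).left).continuous

theorem idxAt_comp_chi {U W T : Over S} (a : U ⟶ T) (i : W ⟶ U) (c : T.left ⟶ S') (hc : c ≫ f = T.hom) (m : Z)
    (hd' : (i.left ≫ a.left ≫ c) ≫ f = W.hom) (w : W.left) :
    idxAt f e (i.left ≫ a.left ≫ c) hd' (i ≫ a ≫ chi f e T c hc m) w = m := by
  have h : bcPts f X (Over.mk (i.left ≫ a.left ≫ c))
      (upTo f (i.left ≫ a.left ≫ c) hd' ≫ i ≫ a ≫ chi f e T c hc m) = Const38.cpt e _ m := by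
    rw [comp_chi f a i c hc m hd', MulEquiv.apply_symm_apply]
  exact (congrArg (fun q : Over.mk (i.left ≫ a.left ≫ c) ⟶ Red.bc f X => Const38.index e (q.left w)) h).trans
    (Const38.index_cpt e (Over.mk (i.left ≫ a.left ≫ c)) m w)

theorem hd_comp {U T : Over S} (a : U ⟶ T) (c : T.left ⟶ S') (hc : c ≫ f = T.hom) :
    (a.left ≫ c) ≫ f = U.hom := by
  rw [Category.assoc, hc, Over.w a]

theorem hd_comp₂ {U W T : Over S} (a : U ⟶ T) (i : W ⟶ U) (c : T.left ⟶ S') (hc : c ≫ f = T.hom) :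
    (i.left ≫ a.left ≫ c) ≫ f = W.hom := by
  rw [Category.assoc, hd_comp f a c hc, Over.w i]

/-- A group which is constant over `S'` is trivialised over every object lying over `S'`. -/
def trivOfConst (he : TwC.IsConstGrp Z (Red.bc f X) e) (T : Over S) (c : T.left ⟶ S') (hc : c ≫ f = T.hom) :
    Triv Z X T where
  χ := MonoidHom.mk' (chi f e T c hc) (chi_mul f he T c hc)
  idx {U} a x := idxAt f e (a.left ≫ c) (hd_comp f a c hc) x
  lc {U} a x := isLocallyConstant_idxAt f (a.left ≫ c) (hd_comp f a c hc) x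
  eq_χ {U W} a x i m h :=
    eq_of_idxAt f (i.left ≫ a.left ≫ c) (hd_comp₂ f a i c hc) (i ≫ x) (i ≫ a ≫ chi f e T c hc m) m
      (fun w => (idxAt_comp f i (a.left ≫ c) (hd_comp f a c hc) x (hd_comp₂ f a i c hc) w).trans (h w))
      (comp_chi f a i c hc m (hd_comp₂ f a i c hc))
  idx_eq {U W} a x i m h w :=
    (idxAt_comp f i (a.left ≫ c) (hd_comp f a c hc) x (hd_comp₂ f a i c hc) w).symm.trans
      ((congrArg (fun y : W ⟶ X => idxAt f e (i.left ≫ a.left ≫ c) (hd_comp₂ f a i c hc) y w) h).trans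
        (idxAt_comp_chi f a i c hc m (hd_comp₂ f a i c hc) w))

end OfConst

section Glue

variable {Z : Type u} [CommGroup Z] {X T : Over S} [GrpObj X] [IsCommMonObj X] (τ : Triv Z X T)

/-- The clopen where a point has index `m`. -/
def piece {U : Over S} (a : U ⟶ T) (x : U ⟶ X) (m : Z) : U.left.Opens :=
  ⟨τ.idx a x ⁻¹' {m}, (τ.lc a x).isOpen_fiber m⟩

theorem iSup_piece {U : Over S} (a : U ⟶ T) (x : U ⟶ X) : ⨆ m, piece τ a x m = ⊤ :=
  top_le_iff.1 fun v _ => TopologicalSpace.Opens.mem_iSup.2 ⟨τ.idx a x v, rfl⟩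

variable (E : BigSite.Ab Scheme.fppfPrecoverage S) (Φ : Additive Z →+ E.obj.obj (op T))

/-- The section `y` is the value at `x` of the homomorphism given by `Φ` on constant points. -/
def IsVal {U : Over S} (a : U ⟶ T) (x : U ⟶ X) (y : E.obj.obj (op U)) : Prop :=
  ∀ (W : Over S) (i : W ⟶ U) (m : Z), i ≫ x = i ≫ a ≫ τ.χ m →
    E.obj.map i.op y = E.obj.map (i ≫ a).op (Φ (Additive.ofMul m))

variable {E Φ}

theorem IsVal.unique {U : Over S} {a : U ⟶ T} {x : U ⟶ X} {y y' : E.obj.obj (op U)}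
    (h : IsVal τ E Φ a x y) (h' : IsVal τ E Φ a x y') : y = y' :=
  GaExt25.section_ext_opens E (piece τ a x) (iSup_piece τ a x) fun m =>
    let k : Over.mk ((piece τ a x m).ι ≫ U.hom) ⟶ U := Over.homMk (piece τ a x m).ι rfl
    have hk : k ≫ x = k ≫ a ≫ τ.χ m := τ.eq_χ a x k m fun w => w.2
    (h _ k m hk).trans (h' _ k m hk).symm

variable (E Φ) in
theorem exists_isVal {U : Over S} (a : U ⟶ T) (x : U ⟶ X) : ∃ y, IsVal τ E Φ a x y := by
  let V : Z → U.left.Opens := piece τ a x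
  let ι' : ∀ m, Over.mk ((V m).ι ≫ U.hom) ⟶ U := fun m => Over.homMk (V m).ι rfl
  obtain ⟨y, hy⟩ := GaExt25.section_glue_opens E V (iSup_piece τ a x)
    (fun m => E.obj.map (ι' m ≫ a).op (Φ (Additive.ofMul m))) (fun m n Q g g' hgg' => by
      rw [GaExt25.map_map, GaExt25.map_map]
      rcases eq_or_ne m n with rfl | hne
      · rw [← Category.assoc, ← Category.assoc, hgg']
      · haveI : IsEmpty ↥Q.left := ⟨fun q => hne (by
          have h1 : τ.idx a x ((g ≫ ι' m).left q) = m := (g.left q).2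
          have h2 : τ.idx a x ((g' ≫ ι' n).left q) = n := (g'.left q).2
          rw [← h1, ← h2]
          exact congrArg (fun k : Q ⟶ U => τ.idx a x (k.left q)) hgg')⟩
        exact GaExt25.section_ext_of_isEmpty E _ _)
  refine ⟨y, fun W i m h => ?_⟩
  let V' : Z → W.left.Opens := fun n => i.left ⁻¹ᵁ V n
  refine GaExt25.section_ext_opens E V' (top_le_iff.1 fun w _ =>
    TopologicalSpace.Opens.mem_iSup.2 ⟨τ.idx a x (i.left w), rfl⟩) fun n => ?_
  let k : Over.mk ((V' n).ι ≫ W.hom) ⟶ W := Over.homMk (V' n).ι rfl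
  rcases eq_or_ne n m with rfl | hne
  · let r : Over.mk ((V' n).ι ≫ W.hom) ⟶ Over.mk ((V n).ι ≫ U.hom) := Over.homMk (i.left ∣_ V n) (by
      show _ ≫ (V n).ι ≫ U.hom = (V' n).ι ≫ W.hom
      rw [morphismRestrict_ι_assoc, Over.w i])
    have hr : r ≫ ι' n = k ≫ i := Over.OverMorphism.ext (morphismRestrict_ι i.left (V n))
    rw [GaExt25.map_map, GaExt25.map_map]
    show E.obj.map (k ≫ i).op y = E.obj.map (k ≫ i ≫ a).op _
    rw [← hr, ← GaExt25.map_map, hy, GaExt25.map_map, ← Category.assoc k i a, ← hr, Category.assoc]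
  · haveI : IsEmpty ↥(Over.mk ((V' n).ι ≫ W.hom)).left :=
      ⟨fun w => hne ((show τ.idx a x (i.left w.1) = n from w.2).symm.trans (τ.idx_eq a x i m h _))⟩
    exact GaExt25.section_ext_of_isEmpty E _ _

variable (E Φ) in
/-- The value at a point. -/
def val {U : Over S} (a : U ⟶ T) (x : U ⟶ X) : E.obj.obj (op U) := (exists_isVal τ E Φ a x).choose

theorem isVal_val {U : Over S} (a : U ⟶ T) (x : U ⟶ X) : IsVal τ E Φ a x (val τ E Φ a x) :=
  (exists_isVal τ E Φ a x).choose_spec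

theorem val_map {U U' : Over S} (a : U ⟶ T) (x : U ⟶ X) (g : U' ⟶ U) :
    E.obj.map g.op (val τ E Φ a x) = val τ E Φ (g ≫ a) (g ≫ x) := by
  refine IsVal.unique τ (fun W i m h => ?_) (isVal_val τ _ _)
  rw [GaExt25.map_map, ← Category.assoc i g a]
  refine isVal_val τ a x W (i ≫ g) m ?_
  simpa [Category.assoc] using h

theorem val_mul {U : Over S} (a : U ⟶ T) (x x' : U ⟶ X) :
    val τ E Φ a (x * x') = val τ E Φ a x + val τ E Φ a x' := by
  refine GaExt25.section_ext_opens E (fun p : Z × Z => piece τ a x p.1 ⊓ piece τ a x' p.2)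
    (top_le_iff.1 fun v _ => TopologicalSpace.Opens.mem_iSup.2 ⟨(τ.idx a x v, τ.idx a x' v), rfl, rfl⟩) fun p => ?_
  let i : Over.mk ((piece τ a x p.1 ⊓ piece τ a x' p.2).ι ≫ U.hom) ⟶ U := Over.homMk (piece τ a x p.1 ⊓ piece τ a x' p.2).ι rfl
  have h1 : i ≫ x = i ≫ a ≫ τ.χ p.1 := τ.eq_χ a x i p.1 fun w => w.2.1
  have h2 : i ≫ x' = i ≫ a ≫ τ.χ p.2 := τ.eq_χ a x' i p.2 fun w => w.2.2
  show E.obj.map i.op (val τ E Φ a (x * x')) = E.obj.map i.op (val τ E Φ a x + val τ E Φ a x')
  rw [map_add, isVal_val τ a x _ i p.1 h1, isVal_val τ a x' _ i p.2 h2,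
    isVal_val τ a (x * x') _ i (p.1 * p.2) (by rw [MonObj.comp_mul, h1, h2, map_mul, MonObj.comp_mul, MonObj.comp_mul]),
    ofMul_mul, map_add, map_add]

variable (E Φ) in
/-- The homomorphism out of the points given by `Φ` on constant points. -/
def homOfConst : (CGrpSh.pts Scheme.fppfPrecoverage X).over T ⟶ E.over T :=
  GaExt25.mkComp (F := CGrpSh.pts Scheme.fppfPrecoverage X)
    (fun U a => AddMonoidHom.mk' (fun x => val τ E Φ a x.down.toMul) fun x x' => val_mul τ a _ _)
    fun U V g a x => val_map τ a x.down.toMul g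

theorem comp'_homOfConst {U : Over S} (a : U ⟶ T) (x : (CGrpSh.pts Scheme.fppfPrecoverage X).obj.obj (op U)) :
    GaExt25.comp' (homOfConst τ E Φ) a x = val τ E Φ a x.down.toMul := rfl

end Glue

end Groth.Agent.LatExt7
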